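import Mathlib
import Cfsg.Agent.H105.Og.Engine
import Cfsg.Agent.H990.TC.CentDec

/-!
# Elements of order `p` in the orthogonal groups (S2454, helper166)
-/

set_option autoImplicit false
set_option linter.unusedSectionVars false

namespace Cfsg.Agent.H166.Og

open QuadraticMap Matrix Module Subgroup Cfsg.Agent.LieClassical.OrthCore Cfsg.Agent.LieClassical.OrthTrans
  Cfsg.Agent.H514.DP Cfsg.Agent.H105.Og

section Count

variable {F : Type} [Field F] [Finite F] {U : Type} [AddCommGroup U] [Module F U] [FiniteDimensional F U]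

theorem card_dot {n : ℕ} {x : Fin n → F} (hx : x ≠ 0) (c : F) :
    Nat.card {y : Fin n → F // x ⬝ᵥ y = c} = Nat.card F ^ (n - 1) := by
  classical
  have := Fintype.ofFinite F
  obtain ⟨i, hi⟩ := Function.ne_iff.1 hx
  have hn : 1 ≤ n := by
    rcases n with _ | n
    · exact i.elim0
    · omega
  let f : (Fin n → F) →ₗ[F] F := dotProductBilin F F x
  have hf : ∀ y, f y = x ⬝ᵥ y := fun y => rfl
  have hsurj : Function.Surjective f := by
    intro a
    refine ⟨Pi.single i (a / x i), ?_⟩
    rw [hf, dotProduct_single, mul_div_cancel₀ _ hi]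
  obtain ⟨y0, hy0⟩ := hsurj c
  have e : {y : Fin n → F // x ⬝ᵥ y = c} ≃ LinearMap.ker f :=
    { toFun := fun y => ⟨y.1 - y0, by rw [LinearMap.mem_ker, map_sub, hf, y.2, hy0, sub_self]⟩
      invFun := fun y => ⟨y.1 + y0, by
        have := y.2
        rw [LinearMap.mem_ker] at this
        rw [← hf, map_add, this, hy0, zero_add]⟩
      left_inv := fun y => Subtype.ext (sub_add_cancel _ _)
      right_inv := fun y => Subtype.ext (add_sub_cancel_right _ _) }
  rw [Nat.card_congr e, Module.natCard_eq_pow_finrank (K := F)]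
  have h1 := LinearMap.finrank_range_add_finrank_ker f
  rw [LinearMap.range_eq_top.2 hsurj, finrank_top, Module.finrank_self, Module.finrank_fin_fun] at h1
  congr 1
  omega

/-- the number of singular vectors of `x ⬝ᵥ y + R u` -/
theorem card_sing (n : ℕ) (R : QuadraticForm F U) :
    Nat.card {v : ((Fin n → F) × (Fin n → F)) × U // HU (Fin n) R v = 0} =
      (Nat.card F ^ n - 1) * (Nat.card F ^ (n - 1) * Nat.card F ^ finrank F U) +
        Nat.card F ^ n * Nat.card {u : U // R u = 0} := by
  classical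
  have : Finite U := Module.finite_of_finite F
  have := Fintype.ofFinite F
  have := Fintype.ofFinite U
  have e : {v : ((Fin n → F) × (Fin n → F)) × U // HU (Fin n) R v = 0} ≃
      Σ x : Fin n → F, Σ u : U, {y : Fin n → F // x ⬝ᵥ y = - R u} :=
    { toFun := fun v => ⟨v.1.1.1, v.1.2, v.1.1.2, by
        have := v.2
        rw [HU_apply] at this
        exact eq_neg_of_add_eq_zero_left this⟩
      invFun := fun v => ⟨((v.1, v.2.2.1), v.2.1), by
        rw [HU_apply, v.2.2.2, neg_add_cancel]⟩
      left_inv := fun v => rfl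
      right_inv := fun v => rfl }
  rw [Nat.card_congr e, Nat.card_sigma]
  have h1 : ∀ x : Fin n → F, x ≠ 0 → Nat.card (Σ u : U, {y : Fin n → F // x ⬝ᵥ y = - R u}) =
      Nat.card F ^ (n - 1) * Nat.card F ^ finrank F U := by
    intro x hx
    rw [Nat.card_sigma]
    simp only [card_dot hx]
    rw [Finset.sum_const, Finset.card_univ, smul_eq_mul, ← Nat.card_eq_fintype_card (α := U),
      Module.natCard_eq_pow_finrank (K := F) (V := U), mul_comm]
  have h2 : Nat.card (Σ u : U, {y : Fin n → F // (0 : Fin n → F) ⬝ᵥ y = - R u}) =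
      Nat.card F ^ n * Nat.card {u : U // R u = 0} := by
    have e2 : (Σ u : U, {y : Fin n → F // (0 : Fin n → F) ⬝ᵥ y = - R u}) ≃ (Fin n → F) × {u : U // R u = 0} :=
      { toFun := fun v => (v.2.1, ⟨v.1, by
          have := v.2.2
          rw [zero_dotProduct] at this
          exact neg_eq_zero.1 this.symm⟩)
        invFun := fun v => ⟨v.2.1, v.1, by rw [v.2.2, zero_dotProduct, neg_zero]⟩
        left_inv := fun v => rfl
        right_inv := fun v => rfl }
    rw [Nat.card_congr e2, Nat.card_prod, Nat.card_fun, Nat.card_fin]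
  rw [← Finset.add_sum_erase _ _ (Finset.mem_univ (0 : Fin n → F)), h2,
    Finset.sum_congr rfl (fun x hx => h1 x (Finset.ne_of_mem_erase hx)), Finset.sum_const,
    Finset.card_erase_of_mem (Finset.mem_univ _), Finset.card_univ, smul_eq_mul, ← Nat.card_eq_fintype_card,
    Nat.card_fun, Nat.card_fin, add_comm]

end Count

section Dvd

variable {F : Type} [Field F] [Finite F] {V : Type} [AddCommGroup V] [Module F V] [FiniteDimensional F V]

/-- transitivity on nonzero singular vectors -/
theorem dvd_card_E {Q : QuadraticForm F V} (hG : Good Q) :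
    (Nat.card {v : V // Q v = 0} - 1) ∣ Nat.card (E Q) := by
  classical
  have : Finite V := Module.finite_of_finite F
  have hfin : Finite (E Q) := finite_E Q
  obtain ⟨v0, hv0, hs0⟩ := hG.sing
  have h1 : Nat.card {v : V // v ≠ 0 ∧ Q v = 0} = Nat.card {v : V // Q v = 0} - 1 := by
    have e : {v : V // Q v = 0} ≃ Option {v : V // v ≠ 0 ∧ Q v = 0} :=
      { toFun := fun v => if h : v.1 = 0 then none else some ⟨v.1, h, v.2⟩
        invFun := fun o => match o with
          | none => ⟨0, QuadraticMap.map_zero Q⟩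
          | some v => ⟨v.1, v.2.2⟩
        left_inv := fun v => by
          by_cases h : v.1 = 0
          · simp only [h, dif_pos]
            exact Subtype.ext h.symm
          · simp only [h, dif_neg, not_false_iff]
        right_inv := fun o => by
          rcases o with _ | v
          · simp
          · simp [v.2.1] }
    rw [Nat.card_congr e, Finite.card_option]
    omega
  rw [← h1]
  have h2 : MulAction.orbit (E Q) v0 = {v : V | v ≠ 0 ∧ Q v = 0} := by
    ext v
    constructor
    · rintro ⟨g, rfl⟩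
      refine ⟨?_, ?_⟩
      · intro h
        apply hv0
        have h3 : (g : V ≃ₗ[F] V) v0 = 0 := h
        exact (LinearEquiv.map_eq_zero_iff _).1 h3
      · have h3 : Q ((g : V ≃ₗ[F] V) v0) = Q v0 := mem_O.1 (E_le_O g.2) v0
        have h4 : Q ((g : V ≃ₗ[F] V) v0) = 0 := by rw [h3, hs0]
        exact h4
    · rintro ⟨hv, hs⟩
      obtain ⟨g, hg, h3⟩ := hG.trans_norm hv0 hv (by rw [hs0, hs])
      exact ⟨⟨g, hg⟩, h3⟩
  have h3 := MulAction.index_stabilizer (E Q) v0
  rw [h2] at h3
  have h4 : Nat.card {v : V // v ≠ 0 ∧ Q v = 0} = ({v : V | v ≠ 0 ∧ Q v = 0} : Set V).ncard :=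
    Nat.card_coe_set_eq _
  rw [h4, ← h3]
  exact Subgroup.index_dvd_card _

theorem dvd_pow_add_one {q p i : ℕ} (hp : p.Prime) (hi : 1 ≤ i) (ho : orderOf ((q : ℕ) : ZMod p) = 2 * i) :
    p ∣ q ^ i + 1 := by
  have : Fact p.Prime := ⟨hp⟩
  have h1 : ((q : ZMod p) ^ i) ^ 2 = 1 := by
    rw [← pow_mul, mul_comm, ← ho, pow_orderOf_eq_one]
  have h2 : (q : ZMod p) ^ i ≠ 1 := by
    intro h
    have := orderOf_dvd_of_pow_eq_one h
    rw [ho] at this
    have := Nat.le_of_dvd (by omega) this
    omega
  have h3 : (q : ZMod p) ^ i = -1 := by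
    have h4 : ((q : ZMod p) ^ i - 1) * ((q : ZMod p) ^ i + 1) = 0 := by linear_combination h1
    rcases mul_eq_zero.1 h4 with h | h
    · exact absurd (sub_eq_zero.1 h) h2
    · exact eq_neg_of_add_eq_zero_left h
  rw [← ZMod.natCast_eq_zero_iff]
  push_cast
  rw [h3, neg_add_cancel]

/-- The element of order `p` itself. -/
theorem core {Q : QuadraticForm F V} (hG : Good Q) {i p : ℕ} (hp : p.Prime) (hi : 1 ≤ i)
    (ho : orderOf ((Nat.card F : ℕ) : ZMod p) = 2 * i) (hd : finrank F V < 4 * i) {c d : ℕ}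
    (hc : ∀ U : Submodule F V, finrank F U = finrank F V - 2 * i →
      (∀ u : U, (∀ v : U, QuadraticMap.polar (Q.comp U.subtype) v u = 0) → u = 0) →
      Nat.card {y : Module.End F U // ∀ u, (Q.comp U.subtype) (y u) = (Q.comp U.subtype) u} ≤ c)
    (hMin : MinDeg (E Q) d) (hnum : ((Nat.card F ^ i + 1) * c - 1) ^ 5 < d ^ 6) (hdvd : p ∣ Nat.card (E Q)) :
    PW p 5 (E Q) := by
  have hfin : Finite (E Q) := finite_E Q
  have : Fact p.Prime := ⟨hp⟩
  obtain ⟨x, hx⟩ := exists_prime_orderOf_dvd_card' p hdvd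
  have hpF : ((p : ℕ) : F) ≠ 0 := by
    intro h0
    obtain ⟨r, hchar⟩ := CharP.exists F
    have := Fintype.ofFinite F
    obtain ⟨f, hr, hf⟩ := FiniteField.card F r
    have h1 : r ∣ p := (CharP.cast_eq_zero_iff F r p).1 h0
    have h2 : r = p := (Nat.prime_dvd_prime_iff_eq hr hp).1 h1
    have h3 : ((Nat.card F : ℕ) : ZMod p) = 0 := by
      rw [ZMod.natCast_eq_zero_iff, Nat.card_eq_fintype_card, hf, h2]
      exact dvd_pow_self _ f.pos.ne'
    rw [h3] at ho
    have h4 : orderOf (0 : ZMod p) = 0 := by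
      rw [orderOf_eq_zero_iff']
      intro n hn
      rw [zero_pow hn.ne']
      exact zero_ne_one
    omega
  have hx1 : (((x : V ≃ₗ[F] V) : V →ₗ[F] V) : Module.End F V) ≠ 1 := by
    intro h
    have h1 : x = 1 := by
      apply Subtype.ext
      apply LinearEquiv.ext
      intro v
      exact LinearMap.congr_fun h v
    rw [h1, orderOf_one] at hx
    exact hp.one_lt.ne hx
  have hxp : (((x : V ≃ₗ[F] V) : V →ₗ[F] V) : Module.End F V) ^ p = 1 := by
    have h1 : x ^ p = 1 := by rw [← hx]; exact pow_orderOf_eq_one x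
    have h2 := congrArg (fun z : E Q => ((z : V ≃ₗ[F] V) : V →ₗ[F] V)) h1
    have h3 : ∀ n : ℕ, (((x ^ n : E Q) : V ≃ₗ[F] V) : V →ₗ[F] V) =
        (((x : V ≃ₗ[F] V) : V →ₗ[F] V) : Module.End F V) ^ n := by
      intro n
      induction n with
      | zero => rfl
      | succ n ih =>
        rw [pow_succ, pow_succ, ← ih]
        rfl
    rw [← h3]
    exact h2
  have h1 := H990.TC.Cent.dec Q (fun u hu => hG.nondeg u fun y => by rw [QuadraticMap.polar_comm]; exact hu y) hp hpF
    _ hx1 hxp (fun v => mem_O.1 (E_le_O x.2) v) ho hd (dvd_pow_add_one hp hi ho) c hc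
  have hcard := (card_centralizer_le x).trans h1
  have h2 := PW.of_pe (m := 1) (k := 5) (perfect_of_good hG) (IsPE.of_prime hx).pe hMin (by norm_num)
    (lt_of_le_of_lt (Nat.pow_le_pow_left (Nat.sub_le_sub_right hcard 1) 5) hnum)
  exact h2

end Dvd

end Cfsg.Agent.H166.Og
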